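import Mathlib

/-!
Deligne's theorem: a site with fibre products and a class of objects, stable under fibre products and covering every
object, whose covering sieves have finite refinements in the class, has enough points.
-/

set_option autoImplicit false
set_option linter.style.haveILetI false

universe v w

open CategoryTheory CategoryTheory.Limits Opposite

namespace Groth.Agent.Deligne

variable {C : Type w} [Category.{v} C]

/-- the hypotheses: quasi-compact objects -/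
structure Hyp (J : GrothendieckTopology C) (Q : C → Prop) : Prop where
  exists_cover : ∀ X : C, ∃ S : Sieve X, S ∈ J X ∧
    ∀ ⦃Y : C⦄ (f : Y ⟶ X), S f → ∃ (U : C) (g : Y ⟶ U) (h : U ⟶ X), Q U ∧ g ≫ h = f
  pullback : ∀ {A B D : C} (f : A ⟶ D) (g : B ⟶ D), Q A → Q B → Q D →
    ∃ (P : C) (p : P ⟶ A) (q : P ⟶ B), Q P ∧ IsPullback p q f g
  finite : ∀ (U : C), Q U → ∀ S : Sieve U, S ∈ J U → ∃ (n : ℕ) (V : Fin n → C) (g : ∀ k, V k ⟶ U),
    (∀ k, Q (V k)) ∧ (∀ k, S (g k)) ∧ Sieve.ofArrows V g ∈ J U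

variable {J : GrothendieckTopology C} {Q : C → Prop}

/-- finite fibre products over a base inside the class -/
theorem exists_wp (hyp : Hyp J Q) {ι : Type*} (s : Finset ι) {B : C} (hB : Q B) (E V : ι → C) (hE : ∀ i, Q (E i))
    (hV : ∀ i, Q (V i)) (f : ∀ i ∈ s, B ⟶ E i) (g : ∀ i, V i ⟶ E i) :
    ∃ (P : C) (p₀ : P ⟶ B) (p : ∀ i ∈ s, P ⟶ V i), Q P ∧ (∀ i hi, p i hi ≫ g i = p₀ ≫ f i hi) ∧
      (∀ (Z : C) (z₀ : Z ⟶ B) (z : ∀ i ∈ s, Z ⟶ V i), (∀ i hi, z i hi ≫ g i = z₀ ≫ f i hi) →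
        ∃ l : Z ⟶ P, l ≫ p₀ = z₀ ∧ ∀ i hi, l ≫ p i hi = z i hi) ∧
      (∀ (Z : C) (l l' : Z ⟶ P), l ≫ p₀ = l' ≫ p₀ → (∀ i hi, l ≫ p i hi = l' ≫ p i hi) → l = l') := by
  classical
  induction s using Finset.induction_on with
  | empty =>
    exact ⟨B, 𝟙 B, fun i hi => absurd hi (Finset.notMem_empty i), hB, fun i hi => absurd hi (Finset.notMem_empty i),
      fun Z z₀ z _ => ⟨z₀, Category.comp_id _, fun i hi => absurd hi (Finset.notMem_empty i)⟩,
      fun Z l l' h _ => by simpa using h⟩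
  | insert j s hj ih =>
    obtain ⟨P, p₀, p, hP, hp, hex, huniq⟩ := ih (fun i hi => f i (Finset.mem_insert_of_mem hi))
    obtain ⟨P', a, b, hP', hpb⟩ := hyp.pullback (p₀ ≫ f j (Finset.mem_insert_self j s)) (g j) hP (hV j) (hE j)
    let p' : ∀ i ∈ insert j s, P' ⟶ V i := fun i hi =>
      if e : j = i then e ▸ b else a ≫ p i ((Finset.mem_insert.mp hi).resolve_left (Ne.symm e))
    have hp'j : ∀ hi, p' j hi = b := fun hi => dif_pos rfl
    have hp's : ∀ i (hi : i ∈ s) hi', p' i hi' = a ≫ p i hi := fun i hi hi' =>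
      dif_neg (fun e : j = i => hj (e ▸ hi))
    refine ⟨P', a ≫ p₀, p', hP', fun i hi => ?_, fun Z z₀ z hz => ?_, fun Z l l' h₀ h => ?_⟩
    · rcases Finset.mem_insert.mp hi with rfl | hi'
      · rw [hp'j hi, Category.assoc, hpb.w]
      · rw [hp's i hi' hi, Category.assoc, hp, Category.assoc]
    · obtain ⟨l, hl₀, hl⟩ := hex Z z₀ (fun i hi => z i (Finset.mem_insert_of_mem hi)) fun i hi => hz i _
      refine ⟨hpb.lift l (z j (Finset.mem_insert_self j s)) (by rw [reassoc_of% hl₀, hz]), ?_, fun i hi => ?_⟩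
      · rw [hpb.lift_fst_assoc, hl₀]
      · rcases Finset.mem_insert.mp hi with rfl | hi'
        · rw [hp'j hi, hpb.lift_snd]
        · rw [hp's i hi' hi, hpb.lift_fst_assoc, hl]
    · refine hpb.hom_ext (huniq Z _ _ (by simpa using h₀) fun i hi => ?_) ?_
      · have := h i (Finset.mem_insert_of_mem hi)
        rw [hp's i hi (Finset.mem_insert_of_mem hi)] at this
        simpa using this
      · have := h j (Finset.mem_insert_self j s)
        rwa [hp'j (Finset.mem_insert_self j s)] at this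

section step

variable (J Q) {U₀ : C} (S : Sieve U₀)

/-- a pro-object over `U₀` on which `S` is nowhere covering -/
structure State : Type (max v w + 1) where
  /-- index -/
  D : Type (max v w)
  [cat : SmallCategory D]
  [cof : IsCofiltered D]
  /-- diagram -/
  G : D ⥤ C
  /-- structure maps -/
  base : ∀ d, G.obj d ⟶ U₀
  base_w : ∀ {d d' : D} (a : d ⟶ d'), G.map a ≫ base d' = base d
  mem : ∀ d, Q (G.obj d)
  good : ∀ d, S.pullback (base d) ∉ J (G.obj d)

attribute [instance] State.cat State.cof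

variable {J Q S} (σ : State J Q S)

/-- a finite covering family of a member of the diagram, with a chosen member -/
structure Pair : Type (max v w) where
  /-- index -/
  d : σ.D
  /-- number of members -/
  n : ℕ
  /-- members -/
  V : Fin n → C
  /-- maps -/
  g : ∀ k, V k ⟶ σ.G.obj d
  memV : ∀ k, Q (V k)
  cover : Sieve.ofArrows V g ∈ J (σ.G.obj d)
  /-- choice -/
  k : Fin n

namespace Pair

variable {σ}

/-- the chosen member -/
abbrev obj (p : Pair σ) : C := p.V p.k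

/-- its map -/
abbrev hom (p : Pair σ) : p.obj ⟶ σ.G.obj p.d := p.g p.k

end Pair

/-- a set of choices keeping `S` nowhere covering -/
def GoodSet (A : Set (Pair σ)) : Prop :=
  ∀ (d : σ.D) (T : Finset (Pair σ)), (↑T : Set (Pair σ)) ⊆ A → ∀ (h : ∀ p ∈ T, d ⟶ p.d) (P : C) (p₀ : P ⟶ σ.G.obj d)
    (pr : ∀ p ∈ T, P ⟶ p.obj), (∀ p hp, pr p hp ≫ p.hom = p₀ ≫ σ.G.map (h p hp)) →
    (∀ (Z : C) (z₀ : Z ⟶ σ.G.obj d) (z : ∀ p ∈ T, Z ⟶ p.obj), (∀ p hp, z p hp ≫ p.hom = z₀ ≫ σ.G.map (h p hp)) →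
        ∃ l : Z ⟶ P, l ≫ p₀ = z₀ ∧ ∀ p hp, l ≫ pr p hp = z p hp) →
    S.pullback (p₀ ≫ σ.base d) ∉ J P

theorem exists_goodSet (hyp : Hyp J Q) :
    ∃ A : Set (Pair σ), GoodSet σ A ∧
      ∀ (d : σ.D) (n : ℕ) (V : Fin n → C) (g : ∀ k, V k ⟶ σ.G.obj d) (hV : ∀ k, Q (V k))
        (hc : Sieve.ofArrows V g ∈ J (σ.G.obj d)), ∃ k, (⟨d, n, V, g, hV, hc, k⟩ : Pair σ) ∈ A := by
  classical
  obtain ⟨A, hA⟩ : ∃ A, Maximal (GoodSet σ) A := by
    refine zorn_subset {A | GoodSet σ A} fun c hc hchain => ?_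
    rcases c.eq_empty_or_nonempty with rfl | hne
    · refine ⟨∅, ?_, fun s hs => absurd hs (Set.notMem_empty s)⟩
      intro d T hT h P p₀ pr _ hex hmem
      have hT' : ∀ p, p ∉ T := fun p hp => hT hp
      obtain ⟨l, hl, -⟩ := hex (σ.G.obj d) (𝟙 _) (fun p hp => absurd hp (hT' p)) (fun p hp => absurd hp (hT' p))
      refine σ.good d ?_
      have h2 := J.pullback_stable l hmem
      rwa [← Sieve.pullback_comp, reassoc_of% hl] at h2
    · refine ⟨⋃₀ c, ?_, fun s hs => Set.subset_sUnion_of_mem hs⟩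
      intro d T hT
      obtain ⟨B, hBc, hB⟩ := DirectedOn.exists_mem_subset_of_finset_subset_biUnion (f := fun x : Set (Pair σ) => x) hne
        hchain.directedOn (by simpa only [Set.sUnion_eq_biUnion] using hT)
      exact hc hBc d T hB
  refine ⟨A, hA.prop, fun d n V g hV hc => by_contra fun hcon => ?_⟩
  push Not at hcon
  let q : Fin n → Pair σ := fun k => ⟨d, n, V, g, hV, hc, k⟩
  have hbad : ∀ k, ¬ GoodSet σ (insert (q k) A) := fun k hk =>
    hcon k (hA.2 hk (Set.subset_insert _ _) (Set.mem_insert _ _))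
  simp only [GoodSet, not_forall, not_not] at hbad
  choose e T hT h P p₀ pr hpr hex hcov using hbad
  -- a common refinement
  let TT : Finset (Pair σ) := Finset.univ.biUnion T
  let O : Finset σ.D := insert d (Finset.univ.image e ∪ TT.image fun p => p.d)
  have hOe : ∀ k, e k ∈ O := fun k => Finset.mem_insert_of_mem (Finset.mem_union_left _ (Finset.mem_image_of_mem _ (Finset.mem_univ k)))
  have hOp : ∀ k, ∀ p ∈ T k, p.d ∈ O := fun k p hp => Finset.mem_insert_of_mem (Finset.mem_union_right _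
    (Finset.mem_image_of_mem _ (Finset.mem_biUnion.mpr ⟨k, Finset.mem_univ k, hp⟩)))
  let H : Finset (Σ' (X Y : σ.D) (_ : X ∈ O) (_ : Y ∈ O), X ⟶ Y) :=
    Finset.univ.biUnion fun k => (T k).attach.image fun p => ⟨e k, p.1.d, hOe k, hOp k p.1 p.2, h k p.1 p.2⟩
  obtain ⟨d', π, hπ⟩ := IsCofiltered.inf_exists O H
  have hcomm : ∀ k p (hp : p ∈ T k), π (hOe k) ≫ h k p hp = π (hOp k p hp) := fun k p hp =>
    hπ (hOe k) (hOp k p hp) (Finset.mem_biUnion.mpr ⟨k, Finset.mem_univ k,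
      Finset.mem_image.mpr ⟨⟨p, hp⟩, Finset.mem_attach _ _, rfl⟩⟩)
  let T₀ : Finset (Pair σ) := TT.filter (· ∈ A)
  have hOp₀ : ∀ p ∈ T₀, p.d ∈ O := fun p hp => Finset.mem_insert_of_mem (Finset.mem_union_right _
    (Finset.mem_image_of_mem _ (Finset.mem_filter.mp hp).1))
  obtain ⟨P₀, z₀, z, -, hz, hex₀, -⟩ := exists_wp hyp T₀ (B := σ.G.obj d') (σ.mem d') (fun p => σ.G.obj p.d)
    (fun p => p.obj) (fun p => σ.mem p.d) (fun p => p.memV p.k) (fun p hp => σ.G.map (π (hOp₀ p hp))) (fun p => p.hom)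
  refine hA.prop d' T₀ (fun p hp => (Finset.mem_filter.mp hp).2) (fun p hp => π (hOp₀ p hp)) P₀ z₀ z hz hex₀ ?_
  refine J.transitive (J.pullback_stable (z₀ ≫ σ.G.map (π (Finset.mem_insert_self d _))) hc) _ fun Z f hf => ?_
  obtain ⟨_, r, _, ⟨k⟩, hr⟩ := hf
  have hsplit : ∀ p ∈ T k, p = q k ∨ p ∈ T₀ := fun p hp =>
    (hT k hp).imp_right fun hpA => Finset.mem_filter.mpr ⟨Finset.mem_biUnion.mpr ⟨k, Finset.mem_univ k, hp⟩, hpA⟩
  have hzs : ∀ p (hp : p ∈ T k), ∃ y : Z ⟶ p.obj, y ≫ p.hom = (f ≫ z₀ ≫ σ.G.map (π (hOe k))) ≫ σ.G.map (h k p hp) := by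
    intro p hp
    simp only [Category.assoc, ← Functor.map_comp, hcomm]
    rcases hsplit p hp with rfl | hp₀
    · exact ⟨r, hr⟩
    · exact ⟨f ≫ z p hp₀, by rw [Category.assoc, hz]⟩
  choose y hy using hzs
  obtain ⟨l, hl₀, -⟩ := hex k Z (f ≫ z₀ ≫ σ.G.map (π (hOe k))) y hy
  have h2 := J.pullback_stable l (hcov k)
  rw [← Sieve.pullback_comp, reassoc_of% hl₀, σ.base_w] at h2
  rwa [← Sieve.pullback_comp]

/-- the next diagram: members refined by finitely many choices -/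
structure Ref (A : Set (Pair σ)) : Type (max v w) where
  /-- index -/
  d : σ.D
  /-- choices -/
  T : Finset (Pair σ)
  sub : (↑T : Set (Pair σ)) ⊆ A
  /-- maps -/
  h : ∀ p ∈ T, d ⟶ p.d

variable {σ} {A : Set (Pair σ)}

/-- morphisms of refinements -/
@[ext]
structure Ref.Hom (x y : Ref σ A) : Type (max v w) where
  /-- map of indices -/
  a : x.d ⟶ y.d
  sub : y.T ⊆ x.T
  comm : ∀ p (hp : p ∈ y.T), x.h p (sub hp) = a ≫ y.h p hp

instance : SmallCategory (Ref σ A) where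
  Hom := Ref.Hom
  id x := ⟨𝟙 _, Finset.Subset.refl _, fun p hp => (Category.id_comp _).symm⟩
  comp f g := ⟨f.a ≫ g.a, g.sub.trans f.sub, fun p hp => by rw [f.comm p (g.sub hp), g.comm p hp, Category.assoc]⟩
  id_comp f := Ref.Hom.ext (Category.id_comp _)
  comp_id f := Ref.Hom.ext (Category.comp_id _)
  assoc f g h := Ref.Hom.ext (Category.assoc _ _ _)

theorem isCofiltered_ref : IsCofiltered (Ref σ A) where
  nonempty := ⟨⟨Classical.choice IsCofiltered.nonempty, ∅, by simp, fun p hp => absurd hp (Finset.notMem_empty p)⟩⟩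
  cone_objs x y := by
    classical
    let O : Finset σ.D := {x.d, y.d} ∪ (x.T ∪ y.T).image fun p => p.d
    have hx : x.d ∈ O := by simp [O]
    have hy : y.d ∈ O := by simp [O]
    have hp : ∀ p ∈ x.T ∪ y.T, p.d ∈ O := fun p h => Finset.mem_union_right _ (Finset.mem_image_of_mem _ h)
    let H : Finset (Σ' (X Y : σ.D) (_ : X ∈ O) (_ : Y ∈ O), X ⟶ Y) :=
      x.T.attach.image (fun p => ⟨x.d, p.1.d, hx, hp p.1 (Finset.mem_union_left _ p.2), x.h p.1 p.2⟩) ∪
      y.T.attach.image (fun p => ⟨y.d, p.1.d, hy, hp p.1 (Finset.mem_union_right _ p.2), y.h p.1 p.2⟩)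
    obtain ⟨d, π, hπ⟩ := IsCofiltered.inf_exists O H
    let z : Ref σ A := ⟨d, x.T ∪ y.T, by rw [Finset.coe_union]; exact Set.union_subset x.sub y.sub, fun p h => π (hp p h)⟩
    exact ⟨z, ⟨π hx, Finset.subset_union_left, fun p h => (hπ hx (hp p (Finset.mem_union_left _ h))
        (Finset.mem_union_left _ (Finset.mem_image.mpr ⟨⟨p, h⟩, Finset.mem_attach _ _, rfl⟩))).symm⟩,
      ⟨π hy, Finset.subset_union_right, fun p h => (hπ hy (hp p (Finset.mem_union_right _ h))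
        (Finset.mem_union_right _ (Finset.mem_image.mpr ⟨⟨p, h⟩, Finset.mem_attach _ _, rfl⟩))).symm⟩, trivial⟩
  cone_maps x y f g := by
    obtain ⟨d, e, he⟩ := IsCofilteredOrEmpty.cone_maps f.a g.a
    exact ⟨⟨d, x.T, x.sub, fun p hp => e ≫ x.h p hp⟩, ⟨e, Finset.Subset.refl _, fun p hp => rfl⟩, Ref.Hom.ext he⟩

/-- the step -/
theorem exists_next (hyp : Hyp J Q) (σ : State J Q S) :
    ∃ (τ : State J Q S) (f : ∀ d : σ.D, τ.D) (π : ∀ d, τ.G.obj (f d) ⟶ σ.G.obj d),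
      (∀ d, π d ≫ σ.base d = τ.base (f d)) ∧
      (∀ (d d' : σ.D) (a : d ⟶ d'), ∃ b : f d ⟶ f d', τ.G.map b ≫ π d' = π d ≫ σ.G.map a) ∧
      (∀ (d : σ.D) (n : ℕ) (V : Fin n → C) (g : ∀ k, V k ⟶ σ.G.obj d), (∀ k, Q (V k)) →
        Sieve.ofArrows V g ∈ J (σ.G.obj d) →
        ∃ (e : τ.D) (b : e ⟶ f d) (k : Fin n) (r : τ.G.obj e ⟶ V k), r ≫ g k = τ.G.map b ≫ π d) := by
  classical
  obtain ⟨A, hA, hsel⟩ := exists_goodSet σ hyp
  have hwp := fun x : Ref σ A => exists_wp hyp x.T (B := σ.G.obj x.d) (σ.mem x.d) (fun p => σ.G.obj p.d)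
    (fun p => p.obj) (fun p => σ.mem p.d) (fun p => p.memV p.k) (fun p hp => σ.G.map (x.h p hp)) (fun p => p.hom)
  choose P p₀ pr hP hpr hex huniq using hwp
  have hmap : ∀ (x y : Ref σ A) (m : x ⟶ y), ∃ l : P x ⟶ P y, l ≫ p₀ y = p₀ x ≫ σ.G.map m.a ∧
      ∀ p hp, l ≫ pr y p hp = pr x p (m.sub hp) := fun x y m =>
    hex y (P x) _ (fun p hp => pr x p (m.sub hp)) fun p hp => by
      rw [hpr, m.comm p hp, Functor.map_comp, Category.assoc]
  choose l hl₀ hl using hmap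
  let G' : Ref σ A ⥤ C :=
    { obj := P
      map := fun {x y} m => l x y m
      map_id := fun x => huniq x _ _ _ (by
        rw [hl₀, Category.id_comp]
        show p₀ x ≫ σ.G.map (𝟙 x.d) = p₀ x
        rw [σ.G.map_id, Category.comp_id]) fun p hp => by rw [hl, Category.id_comp]
      map_comp := fun {x y z} m m' => huniq z _ _ _ (by
        rw [hl₀, Category.assoc, hl₀, reassoc_of% hl₀]
        show p₀ x ≫ σ.G.map (m.a ≫ m'.a) = _
        rw [σ.G.map_comp]) fun p hp => by rw [hl, Category.assoc, hl, hl] }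
  haveI := isCofiltered_ref (σ := σ) (A := A)
  let τ : State J Q S :=
    { D := Ref σ A
      G := G'
      base := fun x => p₀ x ≫ σ.base x.d
      base_w := fun {x y} m => by
        show l x y m ≫ _ = _
        rw [reassoc_of% hl₀, σ.base_w]
      mem := hP
      good := fun x => hA x.d x.T x.sub x.h (P x) (p₀ x) (pr x) (hpr x) (hex x) }
  let emb : σ.D → Ref σ A := fun d => ⟨d, ∅, by simp, fun p hp => absurd hp (Finset.notMem_empty p)⟩
  refine ⟨τ, emb, fun d => p₀ (emb d), fun d => rfl, fun d d' a => ?_, fun d n V g hV hc => ?_⟩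
  · exact ⟨⟨a, Finset.Subset.refl _, fun p hp => absurd hp (Finset.notMem_empty p)⟩, hl₀ _ _ _⟩
  · obtain ⟨k, hk⟩ := hsel d n V g hV hc
    let x : Ref σ A := ⟨d, {(⟨d, n, V, g, hV, hc, k⟩ : Pair σ)}, by simpa using hk,
      fun p hp => eqToHom (by rw [Finset.mem_singleton.mp hp])⟩
    let m : x ⟶ emb d := ⟨𝟙 d, Finset.empty_subset _, fun p hp => absurd hp (Finset.notMem_empty p)⟩
    refine ⟨x, m, k, pr x _ (Finset.mem_singleton_self _), ?_⟩
    refine (hpr x _ (Finset.mem_singleton_self _)).trans ?_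
    show _ = l x (emb d) m ≫ p₀ (emb d)
    rw [hl₀]
    rfl

end step

section point

variable {U₀ : C} (S : Sieve U₀) (hyp : Hyp J Q) (hU₀ : Q U₀) (hS : S ∉ J U₀)

/-- the initial state -/
noncomputable def init : State J Q S where
  D := ULift.{max v w} (Fin 1)
  cat := Preorder.smallCategory _
  cof := inferInstance
  G := (Functor.const _).obj U₀
  base _ := 𝟙 U₀
  base_w _ := Category.id_comp _
  mem _ := hU₀
  good _ := by rwa [Sieve.pullback_id]

/-- the sequence of states -/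
noncomputable def seq : ℕ → State J Q S
  | 0 => init S hU₀ hS
  | n + 1 => (exists_next hyp (seq n)).choose

/-- indices of stage `n + 1` over those of stage `n` -/
noncomputable def next (n : ℕ) (d : (seq S hyp hU₀ hS n).D) : (seq S hyp hU₀ hS (n + 1)).D :=
  (exists_next hyp (seq S hyp hU₀ hS n)).choose_spec.choose d

/-- the transition -/
noncomputable def trans (n : ℕ) (d : (seq S hyp hU₀ hS n).D) :
    (seq S hyp hU₀ hS (n + 1)).G.obj (next S hyp hU₀ hS n d) ⟶ (seq S hyp hU₀ hS n).G.obj d :=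
  (exists_next hyp (seq S hyp hU₀ hS n)).choose_spec.choose_spec.choose d

theorem trans_base (n : ℕ) (d : (seq S hyp hU₀ hS n).D) :
    trans S hyp hU₀ hS n d ≫ (seq S hyp hU₀ hS n).base d = (seq S hyp hU₀ hS (n + 1)).base (next S hyp hU₀ hS n d) :=
  (exists_next hyp (seq S hyp hU₀ hS n)).choose_spec.choose_spec.choose_spec.1 d

theorem trans_natural (n : ℕ) {d d' : (seq S hyp hU₀ hS n).D} (a : d ⟶ d') :
    ∃ b : next S hyp hU₀ hS n d ⟶ next S hyp hU₀ hS n d',
      (seq S hyp hU₀ hS (n + 1)).G.map b ≫ trans S hyp hU₀ hS n d' = trans S hyp hU₀ hS n d ≫ (seq S hyp hU₀ hS n).G.map a :=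
  (exists_next hyp (seq S hyp hU₀ hS n)).choose_spec.choose_spec.choose_spec.2.1 d d' a

theorem exists_choice (m : ℕ) (d : (seq S hyp hU₀ hS m).D) (n : ℕ) (V : Fin n → C)
    (g : ∀ k, V k ⟶ (seq S hyp hU₀ hS m).G.obj d) (hV : ∀ k, Q (V k))
    (hc : Sieve.ofArrows V g ∈ J ((seq S hyp hU₀ hS m).G.obj d)) :
    ∃ (e : (seq S hyp hU₀ hS (m + 1)).D) (b : e ⟶ next S hyp hU₀ hS m d) (k : Fin n)
      (r : (seq S hyp hU₀ hS (m + 1)).G.obj e ⟶ V k),
      r ≫ g k = (seq S hyp hU₀ hS (m + 1)).G.map b ≫ trans S hyp hU₀ hS m d :=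
  (exists_next hyp (seq S hyp hU₀ hS m)).choose_spec.choose_spec.choose_spec.2.2 d n V g hV hc

/-- all indices -/
structure Node : Type (max v w) where
  /-- stage -/
  n : ℕ
  /-- index -/
  d : (seq S hyp hU₀ hS n).D

/-- the object at an index -/
noncomputable abbrev Node.obj (x : Node S hyp hU₀ hS) : C := (seq S hyp hU₀ hS x.n).G.obj x.d

/-- transition maps -/
inductive Gen : ∀ x y : Node S hyp hU₀ hS, (x.obj ⟶ y.obj) → Prop
  | map (n : ℕ) {d d' : (seq S hyp hU₀ hS n).D} (a : d ⟶ d') : Gen ⟨n, d⟩ ⟨n, d'⟩ ((seq S hyp hU₀ hS n).G.map a)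
  | step (x : Node S hyp hU₀ hS) (m : ℕ) (e : (seq S hyp hU₀ hS m).D)
      (c : x.obj ⟶ (seq S hyp hU₀ hS (m + 1)).G.obj (next S hyp hU₀ hS m e))
      (h : Gen x ⟨m + 1, next S hyp hU₀ hS m e⟩ c) : Gen x ⟨m, e⟩ (c ≫ trans S hyp hU₀ hS m e)

variable {S hyp hU₀ hS}

theorem Gen.le {x y : Node S hyp hU₀ hS} {c : x.obj ⟶ y.obj} (h : Gen S hyp hU₀ hS x y c) : y.n ≤ x.n := by
  induction h with
  | map n a => exact le_rfl
  | step _ m e c h ih => exact le_trans (Nat.le_succ m) ih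

theorem Gen.comp_map {x y : Node S hyp hU₀ hS} {c : x.obj ⟶ y.obj} (h : Gen S hyp hU₀ hS x y c) :
    ∀ {d' : (seq S hyp hU₀ hS y.n).D} (a : y.d ⟶ d'),
      Gen S hyp hU₀ hS x ⟨y.n, d'⟩ (c ≫ (seq S hyp hU₀ hS y.n).G.map a) := by
  induction h with
  | map n b =>
    intro d' a
    rw [← Functor.map_comp]
    exact Gen.map n (b ≫ a)
  | step _ m e c h ih =>
    intro d' a
    obtain ⟨b, hb⟩ := trans_natural S hyp hU₀ hS m a
    rw [Category.assoc, ← hb, ← Category.assoc]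
    exact Gen.step _ m d' _ (ih b)

theorem Gen.comp {x y z : Node S hyp hU₀ hS} {c : x.obj ⟶ y.obj} {c' : y.obj ⟶ z.obj}
    (h : Gen S hyp hU₀ hS x y c) (h' : Gen S hyp hU₀ hS y z c') : Gen S hyp hU₀ hS x z (c ≫ c') := by
  induction h' with
  | map n a => exact h.comp_map a
  | step _ m e c' h' ih =>
    rw [← Category.assoc]
    exact Gen.step _ m e _ (ih h)

theorem Gen.base {x y : Node S hyp hU₀ hS} {c : x.obj ⟶ y.obj} (h : Gen S hyp hU₀ hS x y c) :
    c ≫ (seq S hyp hU₀ hS y.n).base y.d = (seq S hyp hU₀ hS x.n).base x.d := by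
  induction h with
  | map n a => exact State.base_w _ a
  | step _ m e c h ih => rw [Category.assoc, trans_base, ih]

theorem Gen.id (x : Node S hyp hU₀ hS) : Gen S hyp hU₀ hS x x (𝟙 x.obj) := by
  rw [← CategoryTheory.Functor.map_id]
  exact Gen.map x.n (𝟙 x.d)

/-- morphisms of indices -/
@[ext]
structure NHom (x y : Node S hyp hU₀ hS) : Type (max v w) where
  /-- the map -/
  c : x.obj ⟶ y.obj
  gen : Gen S hyp hU₀ hS x y c

noncomputable instance : SmallCategory (Node S hyp hU₀ hS) where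
  Hom := NHom
  id x := ⟨𝟙 _, Gen.id x⟩
  comp f g := ⟨f.c ≫ g.c, f.gen.comp g.gen⟩
  id_comp f := NHom.ext (Category.id_comp _)
  comp_id f := NHom.ext (Category.comp_id _)
  assoc f g h := NHom.ext (Category.assoc _ _ _)

variable (S hyp hU₀ hS) in
/-- the pro-object -/
noncomputable def pro : Node S hyp hU₀ hS ⥤ C where
  obj x := x.obj
  map f := NHom.c f

theorem exists_lower (x : Node S hyp hU₀ hS) : ∀ k : ℕ, ∃ (e : (seq S hyp hU₀ hS (x.n + k)).D) (c : _),
    Gen S hyp hU₀ hS ⟨x.n + k, e⟩ x c := by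
  intro k
  induction k with
  | zero => exact ⟨x.d, 𝟙 _, Gen.id x⟩
  | succ k ih =>
    obtain ⟨e, c, hc⟩ := ih
    have h1 := Gen.step _ (x.n + k) e _ (Gen.id (⟨x.n + k + 1, next S hyp hU₀ hS (x.n + k) e⟩ : Node S hyp hU₀ hS))
    exact ⟨next S hyp hU₀ hS (x.n + k) e, _, h1.comp hc⟩

theorem exists_lower_le (x : Node S hyp hU₀ hS) {m : ℕ} (h : x.n ≤ m) :
    ∃ (e : (seq S hyp hU₀ hS m).D) (c : _), Gen S hyp hU₀ hS ⟨m, e⟩ x c := by
  obtain ⟨k, rfl⟩ := Nat.le.dest h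
  exact exists_lower x k

theorem exists_equalize {x y : Node S hyp hU₀ hS} {c : x.obj ⟶ y.obj} (h : Gen S hyp hU₀ hS x y c) :
    ∀ (c' : x.obj ⟶ y.obj), Gen S hyp hU₀ hS x y c' →
      ∃ (d : (seq S hyp hU₀ hS x.n).D) (a : d ⟶ x.d),
        (seq S hyp hU₀ hS x.n).G.map a ≫ c = (seq S hyp hU₀ hS x.n).G.map a ≫ c' := by
  induction h with
  | map n a =>
    intro c' h'
    cases h' with
    | map n a' =>
      obtain ⟨d, e, he⟩ := IsCofilteredOrEmpty.cone_maps a a'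
      exact ⟨d, e, by rw [← Functor.map_comp, ← Functor.map_comp, he]⟩
    | step _ _ _ c h' => exact absurd h'.le (Nat.not_succ_le_self _)
  | step _ m e c h ih =>
    intro c' h'
    cases h' with
    | map n a' => exact absurd h.le (Nat.not_succ_le_self _)
    | step _ _ _ c' h' =>
      obtain ⟨d, a, ha⟩ := ih _ h'
      exact ⟨d, a, by rw [← Category.assoc, ha, Category.assoc]⟩

instance : IsCofiltered (Node S hyp hU₀ hS) where
  nonempty := ⟨⟨0, Classical.choice IsCofiltered.nonempty⟩⟩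
  cone_objs x y := by
    obtain ⟨e, c, hc⟩ := exists_lower_le x (le_max_left x.n y.n)
    obtain ⟨e', c', hc'⟩ := exists_lower_le y (le_max_right x.n y.n)
    obtain ⟨d, a, a', -⟩ := IsCofilteredOrEmpty.cone_objs e e'
    exact ⟨⟨max x.n y.n, d⟩, NHom.mk _ ((Gen.map _ a).comp hc), NHom.mk _ ((Gen.map _ a').comp hc'), trivial⟩
  cone_maps x y f g := by
    obtain ⟨d, a, ha⟩ := exists_equalize (NHom.gen f) (NHom.c g) (NHom.gen g)
    exact ⟨⟨x.n, d⟩, NHom.mk _ (Gen.map x.n a), NHom.ext ha⟩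

instance : InitiallySmall.{max v w} (Node S hyp hU₀ hS) := initiallySmall_of_essentiallySmall _

variable (S hyp hU₀ hS) in
/-- the point -/
noncomputable def point : GrothendieckTopology.Point.{max v w} J :=
  GrothendieckTopology.Point.ofIsCofiltered (pro S hyp hU₀ hS) fun X R hR x f => by
    obtain ⟨n, V, g, hV, hg, hc⟩ := hyp.finite x.obj (State.mem _ x.d) (R.pullback f) (J.pullback_stable f hR)
    obtain ⟨e, b, k, r, hr⟩ := exists_choice S hyp hU₀ hS x.n x.d n V g hV hc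
    refine ⟨V k, g k ≫ f, hg k, ⟨x.n + 1, e⟩, NHom.mk _ (Gen.step _ x.n x.d _ (Gen.map (x.n + 1) b)), r, ?_⟩
    show r ≫ g k ≫ f = (_ ≫ _) ≫ f
    exact (Category.assoc r (g k) f).symm.trans (congrArg (· ≫ f) hr)

/-- element of the fibre -/
noncomputable def el (x : Node S hyp hU₀ hS) {X : C} (a : x.obj ⟶ X) : (point S hyp hU₀ hS).fiber.obj X :=
  GrothendieckTopology.Point.ofIsCofiltered.fiberMk (p := pro S hyp hU₀ hS) (U := x) a

theorem exists_el {X : C} (y : (point S hyp hU₀ hS).fiber.obj X) : ∃ (x : Node S hyp hU₀ hS) (a : x.obj ⟶ X), el x a = y :=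
  GrothendieckTopology.Point.ofIsCofiltered.fiberMk_jointly_surjective (p := pro S hyp hU₀ hS) y

theorem map_el (x : Node S hyp hU₀ hS) {X Y : C} (a : x.obj ⟶ X) (g : X ⟶ Y) :
    (point S hyp hU₀ hS).fiber.map g (el x a) = el x (a ≫ g) :=
  GrothendieckTopology.Point.ofIsCofiltered.fiber_map_fiberMk (pro S hyp hU₀ hS) a g

theorem el_comp {x x' : Node S hyp hU₀ hS} {c : x'.obj ⟶ x.obj} (hc : Gen S hyp hU₀ hS x' x c) {X : C} (a : x.obj ⟶ X) :
    el x' (c ≫ a) = el x a :=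
  GrothendieckTopology.Point.ofIsCofiltered.fiberMk_map_comp (p := pro S hyp hU₀ hS) (NHom.mk c hc : x' ⟶ x) a

theorem exists_of_el_eq {x z : Node S hyp hU₀ hS} {X : C} {a : x.obj ⟶ X} {b : z.obj ⟶ X} (h : el x a = el z b) :
    ∃ (y : Node S hyp hU₀ hS) (c : y.obj ⟶ x.obj) (c' : y.obj ⟶ z.obj),
      Gen S hyp hU₀ hS y x c ∧ Gen S hyp hU₀ hS y z c' ∧ c ≫ a = c' ≫ b := by
  obtain ⟨x', p, q, -⟩ := IsCofilteredOrEmpty.cone_objs x z
  have h' : el x' (NHom.c p ≫ a) = el x' (NHom.c q ≫ b) := by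
    rw [el_comp (NHom.gen p), el_comp (NHom.gen q), h]
  obtain ⟨y, r, hr⟩ := GrothendieckTopology.Point.ofIsCofiltered.exists_of_fiberMk_eq_fiberMk
    (p := pro S hyp hU₀ hS) h'
  exact ⟨y, _, _, (NHom.gen r).comp (NHom.gen p), (NHom.gen r).comp (NHom.gen q),
    (Category.assoc _ _ _).trans (hr.trans (Category.assoc _ _ _).symm)⟩

variable (S hyp hU₀ hS) in
theorem exists_bad :
    ∃ u : (point S hyp hU₀ hS).fiber.obj U₀, ∀ (Y : C) (g : Y ⟶ U₀), S g →
      ∀ y : (point S hyp hU₀ hS).fiber.obj Y, (point S hyp hU₀ hS).fiber.map g y ≠ u := by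
  let z : Node S hyp hU₀ hS := ⟨0, ULift.up 0⟩
  refine ⟨el z (𝟙 U₀), fun Y g hg y hy => ?_⟩
  obtain ⟨x, f, rfl⟩ := exists_el y
  rw [map_el] at hy
  obtain ⟨x', c, c', -, hc', he⟩ := exists_of_el_eq hy
  refine (seq S hyp hU₀ hS x'.n).good x'.d ?_
  have hb : c' ≫ 𝟙 U₀ = (seq S hyp hU₀ hS x'.n).base x'.d := hc'.base
  have hS' : S ((seq S hyp hU₀ hS x'.n).base x'.d) := by
    rw [← hb, ← he, ← Category.assoc]
    exact S.downward_closed hg _
  rw [Sieve.pullback_eq_top_of_mem _ hS']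
  exact J.top_mem _

end point

/-- Deligne's theorem -/
theorem hasEnoughPoints [HasSheafify J (Type (max v w))] [J.WEqualsLocallyBijective (Type (max v w))]
    (hyp : Hyp J Q) : GrothendieckTopology.HasEnoughPoints.{max v w} J := by
  let ι : Type (max v w) := {p : Σ U : C, Sieve U // Q p.1 ∧ p.2 ∉ J p.1}
  refine ⟨ObjectProperty.ofObj fun i : ι => point i.1.2 hyp i.2.1 i.2.2, inferInstance, ?_⟩
  refine ObjectProperty.IsConservativeFamilyOfPoints.mk' fun X S hS => by_contra fun hn => ?_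
  obtain ⟨T, hT, hfac⟩ := hyp.exists_cover X
  obtain ⟨U, h, hU, hnh⟩ : ∃ (U : C) (h : U ⟶ X), Q U ∧ S.pullback h ∉ J U := by
    by_contra hall
    push Not at hall
    refine hn (J.transitive hT S fun Y f hf => ?_)
    obtain ⟨U, g, h, hU, rfl⟩ := hfac f hf
    rw [Sieve.pullback_comp]
    exact J.pullback_stable g (hall U h hU)
  let i : ι := ⟨⟨U, S.pullback h⟩, hU, hnh⟩
  obtain ⟨u, hu⟩ := exists_bad (S.pullback h) hyp hU hnh
  obtain ⟨Y, g, hg, y, hy⟩ := hS ⟨_, ⟨i⟩⟩ ((point (S.pullback h) hyp hU hnh).fiber.map h u)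
  obtain ⟨x, a, rfl⟩ := exists_el (S := S.pullback h) (hyp := hyp) (hU₀ := hU) (hS := hnh) y
  obtain ⟨z, b, rfl⟩ := exists_el u
  have hy' : el x (a ≫ g) = el z (b ≫ h) := by
    rw [← map_el, ← map_el]; exact hy
  obtain ⟨x', c, c', -, hc', he⟩ := exists_of_el_eq hy'
  have hcS : S.pullback h (c' ≫ b) := by
    show S ((c' ≫ b) ≫ h)
    rw [Category.assoc, ← he, ← Category.assoc]
    exact S.downward_closed hg _
  refine hu _ _ hcS (el x' (𝟙 _)) ?_
  rw [map_el, Category.id_comp, el_comp hc']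

end Groth.Agent.Deligne
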